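import Mathlib

/-!
# A finite special Jordan division algebra is commutative

`jordan_comm`: `R` a finite ring of characteristic `p ≠ 2`, `J` an additive subgroup containing `1`, closed under
`(a, b) ↦ a b a`, all of whose non-zero elements are units of `R`: the elements of `J` commute.
-/

set_option autoImplicit false

namespace Cfsg.Agent.H317.KP.Jordan

variable {R : Type*} [Ring R]

/-- alternating words in powers of `a` (`true`) and `b` (`false`): `W n s e x x'` -/
inductive W (g : Bool → R) : ℕ → Bool → Bool → R → R → Prop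
  | base (s : Bool) (i : ℕ) : W g 1 s s (g s ^ i) (g s ^ i)
  | cons (s : Bool) (i : ℕ) {n : ℕ} {e : Bool} {x x' : R} (h : W g n (!s) e x x') :
      W g (n + 1) s e (g s ^ i * x) (x' * g s ^ i)

variable {g : Bool → R}

theorem W.merge {n : ℕ} {s e : Bool} {x x' : R} (h : W g n s e x x') (i : ℕ) :
    W g n s e (g s ^ i * x) (x' * g s ^ i) := by
  cases h with
  | base _ j =>
    have := W.base (g := g) s (i + j)
    rw [pow_add] at this
    have h2 : g s ^ j * g s ^ i = g s ^ i * g s ^ j := by rw [← pow_add, ← pow_add, add_comm]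
    rw [h2]; exact this
  | cons _ j h =>
    have := W.cons s (i + j) h
    rw [← mul_assoc, ← pow_add, mul_assoc, ← pow_add, add_comm j i]
    exact this

theorem W.snoc {n : ℕ} {s e : Bool} {x x' : R} (h : W g n s e x x') (i : ℕ) :
    W g (n + 1) s (!e) (x * g (!e) ^ i) (g (!e) ^ i * x') := by
  induction h with
  | base s j =>
    have h1 : W g 1 (!s) (!s) (g (!s) ^ i) (g (!s) ^ i) := W.base _ i
    exact W.cons s j h1
  | cons s j h ih =>
    have := W.cons s j ih
    rw [mul_assoc, ← mul_assoc (g _ ^ i)]
    exact this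

theorem W.mergeEnd {n : ℕ} {s e : Bool} {x x' : R} (h : W g n s e x x') (i : ℕ) :
    W g n s e (x * g e ^ i) (g e ^ i * x') := by
  induction h with
  | base s j =>
    have := W.base (g := g) s (j + i)
    rw [pow_add] at this
    have h2 : g s ^ i * g s ^ j = g s ^ j * g s ^ i := by rw [← pow_add, ← pow_add, add_comm]
    rw [h2]; exact this
  | cons s j h ih =>
    have := W.cons s j ih
    rw [mul_assoc, ← mul_assoc (g _ ^ i)]
    exact this

theorem W.rev {n : ℕ} {s e : Bool} {x x' : R} (h : W g n s e x x') : W g n e s x' x := by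
  induction h with
  | base s j => exact W.base s j
  | cons s j h ih =>
    have := ih.snoc j
    rw [Bool.not_not] at this
    exact this

theorem W.two {n : ℕ} {s e : Bool} {x x' : R} (h : W g (n + 2) s e x x') :
    ∃ (i : ℕ) (y y' : R), W g (n + 1) (!s) e y y' ∧ x = g s ^ i * y ∧ x' = y' * g s ^ i := by
  cases h with
  | cons _ i h => exact ⟨i, _, _, h, rfl, rfl⟩

theorem W.twoEnd {n : ℕ} {s e : Bool} {x x' : R} (h : W g (n + 2) s e x x') :
    ∃ (i : ℕ) (y y' : R), W g (n + 1) s (!e) y y' ∧ x = y * g e ^ i ∧ x' = g e ^ i * y' := by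
  obtain ⟨i, y, y', hy, e1, e2⟩ := h.rev.two
  exact ⟨i, y', y, hy.rev, e2, e1⟩

theorem W.pos {n : ℕ} {s e : Bool} {x x' : R} (h : W g n s e x x') : 1 ≤ n := by
  induction h with
  | base => exact le_rfl
  | cons => omega

theorem W.one {n : ℕ} {s e : Bool} {x x' : R} (h : W g n s e x x') (hn : n = 1) :
    s = e ∧ ∃ i : ℕ, x = g s ^ i ∧ x' = g s ^ i := by
  induction h with
  | base s i => exact ⟨rfl, i, rfl, rfl⟩
  | cons s i h ih =>
    have := h.pos
    omega

section J

variable (J : AddSubgroup R) (h1 : (1 : R) ∈ J) (hU : ∀ a ∈ J, ∀ b ∈ J, a * b * a ∈ J)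

include hU in
theorem triple {a b c : R} (ha : a ∈ J) (hb : b ∈ J) (hc : c ∈ J) : a * b * c + c * b * a ∈ J := by
  have h := J.sub_mem (J.sub_mem (hU (a + c) (J.add_mem ha hc) b hb) (hU a ha b hb)) (hU c hc b hb)
  have e : (a + c) * b * (a + c) - a * b * a - c * b * c = a * b * c + c * b * a := by noncomm_ring
  rwa [e] at h

include h1 hU in
theorem circ {a c : R} (ha : a ∈ J) (hc : c ∈ J) : a * c + c * a ∈ J := by
  have := triple J hU ha h1 hc
  rwa [mul_one, mul_one] at this

include h1 hU in
theorem pow_mem {a : R} (ha : a ∈ J) : ∀ n : ℕ, a ^ n ∈ J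
  | 0 => by rw [pow_zero]; exact h1
  | 1 => by rw [pow_one]; exact ha
  | n + 2 => by
    have := hU a ha (a ^ n) (pow_mem ha n)
    rwa [← pow_succ', ← pow_succ] at this

include h1 hU in
theorem cohn (hg : ∀ s, g s ∈ J) (n : ℕ) : ∀ {s e : Bool} {x x' : R}, W g n s e x x' → x + x' ∈ J := by
  induction n using Nat.strong_induction_on with
  | _ n ih =>
    intro s e x x' h
    have hp : ∀ s i, g s ^ i ∈ J := fun s i => pow_mem J h1 hU (hg s) i
    match n, ih, h with
    | 0, _, h => exact absurd h.pos (by omega)
    | 1, _, h =>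
      obtain ⟨-, i, rfl, rfl⟩ := h.one rfl
      exact J.add_mem (hp _ _) (hp _ _)
    | 2, _, h =>
      obtain ⟨i, y, y', hy, rfl, rfl⟩ := h.two
      obtain ⟨-, j, rfl, rfl⟩ := hy.one rfl
      exact circ J h1 hU (hp _ _) (hp _ _)
    | n + 3, ih, h =>
      obtain ⟨i, z, z', hz, rfl, rfl⟩ := h.two
      obtain ⟨j, y, y', hy, rfl, rfl⟩ := hz.twoEnd
      by_cases hse : s = e
      · subst hse
        rcases le_total i j with hij | hij
        · obtain ⟨d, rfl⟩ := Nat.exists_eq_add_of_le hij
          have hw : W g (n + 2) (!s) s (y * g s ^ d) (g s ^ d * y') := by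
            have := hy.snoc d
            rwa [Bool.not_not] at this
          have hJ := ih (n + 2) (by omega) hw
          have := hU _ (hp s i) _ hJ
          have e1 : g s ^ i * (y * g s ^ (i + d)) + g s ^ (i + d) * y' * g s ^ i
              = g s ^ i * (y * g s ^ d + g s ^ d * y') * g s ^ i := by
            rw [pow_add]
            have hc : g s ^ i * g s ^ d = g s ^ d * g s ^ i := by rw [← pow_add, ← pow_add, add_comm]
            rw [mul_add, add_mul]
            congr 1
            · rw [hc]; simp only [mul_assoc]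
            · simp only [mul_assoc]
          rw [e1]; exact this
        · obtain ⟨d, rfl⟩ := Nat.exists_eq_add_of_le hij
          have hw : W g (n + 2) s (!s) (g s ^ d * y) (y' * g s ^ d) := by
            exact W.cons s d hy
          have hJ := ih (n + 2) (by omega) hw
          have := hU _ (hp s j) _ hJ
          have e1 : g s ^ (j + d) * (y * g s ^ j) + g s ^ j * y' * g s ^ (j + d)
              = g s ^ j * (g s ^ d * y + y' * g s ^ d) * g s ^ j := by
            rw [pow_add]
            have hc : g s ^ j * g s ^ d = g s ^ d * g s ^ j := by rw [← pow_add, ← pow_add, add_comm]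
            rw [mul_add, add_mul]
            congr 1
            · simp only [mul_assoc]
            · rw [hc]; simp only [mul_assoc]
          rw [e1]; exact this
      · have he : e = !s := by
          cases s <;> cases e <;> simp_all
        subst he
        rw [Bool.not_not] at hy
        -- `y : !s → s`, reverse `y' : s → !s`
        have hJ := ih (n + 1) (by omega) hy
        have h3 := triple J hU (hp s i) hJ (hp (!s) j)
        have hw : W g (n + 1) s (!s) (g s ^ i * y' * g (!s) ^ j) (g (!s) ^ j * (y * g s ^ i)) := by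
          have := (hy.rev.merge i).mergeEnd j
          exact this
        have h4 := ih (n + 1) (by omega) hw
        have e1 : g s ^ i * (y * g (!s) ^ j) + g (!s) ^ j * y' * g s ^ i
            = (g s ^ i * (y + y') * g (!s) ^ j + g (!s) ^ j * (y + y') * g s ^ i)
              - (g s ^ i * y' * g (!s) ^ j + g (!s) ^ j * (y * g s ^ i)) := by noncomm_ring
        rw [e1]
        exact J.sub_mem h3 h4

end J

end Cfsg.Agent.H317.KP.Jordan
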