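import Cfsg.Agent.H317.KP.Jordan

/-!
# A finite special Jordan division algebra is commutative, second part
-/

set_option autoImplicit false

namespace Cfsg.Agent.H317.KP.Jordan

open MulOpposite

variable {R : Type*} [Ring R]

/-- the ring generated by `(a, a)`, `(b, b)` in `R × Rᵒᵖ`: the graph of the reversal. -/
def DD (a b : R) : Subring (R × Rᵐᵒᵖ) := Subring.closure {(a, op a), (b, op b)}

/-- `x'` is a reversal of `x` -/
def Rel (a b x x' : R) : Prop := (x, op x') ∈ DD a b

variable {a b : R}

theorem rel_a : Rel a b a a := Subring.subset_closure (by simp)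
theorem rel_b : Rel a b b b := Subring.subset_closure (by simp)
theorem rel_one : Rel a b 1 1 := by
  unfold Rel
  have := (DD a b).one_mem
  exact this
theorem rel_zero : Rel a b 0 0 := by
  unfold Rel
  have := (DD a b).zero_mem
  exact this
theorem rel_add {x x' y y' : R} (h : Rel a b x x') (h' : Rel a b y y') : Rel a b (x + y) (x' + y') := by
  unfold Rel
  have := (DD a b).add_mem h h'
  exact this
theorem rel_neg {x x' : R} (h : Rel a b x x') : Rel a b (-x) (-x') := by
  unfold Rel
  have := (DD a b).neg_mem h
  exact this
theorem rel_sub {x x' y y' : R} (h : Rel a b x x') (h' : Rel a b y y') : Rel a b (x - y) (x' - y') := by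
  rw [sub_eq_add_neg, sub_eq_add_neg]
  exact rel_add h (rel_neg h')
theorem rel_mul {x x' y y' : R} (h : Rel a b x x') (h' : Rel a b y y') : Rel a b (x * y) (y' * x') := by
  unfold Rel
  have := (DD a b).mul_mem h h'
  exact this
theorem rel_pow {x x' : R} (h : Rel a b x x') : ∀ n : ℕ, Rel a b (x ^ n) (x' ^ n)
  | 0 => by rw [pow_zero, pow_zero]; exact rel_one
  | n + 1 => by
    rw [pow_succ, pow_succ']
    exact rel_mul (rel_pow h n) h

theorem rel_swap {x x' : R} (h : Rel a b x x') : Rel a b x' x := by
  have key : ∀ z ∈ DD a b, ((unop z.2, op z.1) : R × Rᵐᵒᵖ) ∈ DD a b := by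
    intro z hz
    induction hz using Subring.closure_induction with
    | mem z hz =>
      rcases hz with rfl | rfl
      · exact rel_a
      · exact rel_b
    | zero => exact rel_zero
    | one => exact rel_one
    | add x y _ _ hx hy => exact (DD a b).add_mem hx hy
    | neg x _ hx => exact (DD a b).neg_mem hx
    | mul x y _ _ hx hy =>
      have := (DD a b).mul_mem hy hx
      exact this
  exact key _ h

/-- Cohn: `x + x'` is in `J` -/
theorem rel_J (J : AddSubgroup R) (h1 : (1 : R) ∈ J) (hU : ∀ a ∈ J, ∀ b ∈ J, a * b * a ∈ J) (ha : a ∈ J)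
    (hb : b ∈ J) {x x' : R} (h : Rel a b x x') : x + x' ∈ J := by
  let g : Bool → R := fun s => if s then a else b
  have hg : ∀ s, g s ∈ J := by
    intro s; cases s
    · exact hb
    · exact ha
  have hw : ∀ z ∈ Submonoid.closure ({(a, op a), (b, op b)} : Set (R × Rᵐᵒᵖ)),
      ∃ (n : ℕ) (s e : Bool), W g n s e z.1 (unop z.2) := by
    intro z hz
    induction hz using Submonoid.closure_induction_left with
    | one => exact ⟨1, true, true, by
        have := W.base (g := g) true 0
        rw [pow_zero] at this; exact this⟩
    | mul_left x hx y _ ih =>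
      obtain ⟨n, s, e, hy⟩ := ih
      have main : ∀ u : Bool, x = (g u, op (g u)) → ∃ (n : ℕ) (s e : Bool), W g n s e (x * y).1 (unop (x * y).2) := by
        rintro u rfl
        by_cases hus : u = s
        · subst hus
          refine ⟨n, u, e, ?_⟩
          have := hy.merge 1
          rw [pow_one] at this
          exact this
        · have hs : s = !u := by cases s <;> cases u <;> simp_all
          subst hs
          refine ⟨n + 1, u, e, ?_⟩
          have := W.cons u 1 hy
          rw [pow_one] at this
          exact this
      rcases hx with rfl | rfl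
      · exact main true rfl
      · exact main false rfl
  have key : ∀ z : R × Rᵐᵒᵖ,
      z ∈ AddSubgroup.closure ((Submonoid.closure ({(a, op a), (b, op b)} : Set (R × Rᵐᵒᵖ)) : Set (R × Rᵐᵒᵖ))) →
      z.1 + unop z.2 ∈ J := by
    intro z hz
    induction hz using AddSubgroup.closure_induction with
    | mem x hx =>
      obtain ⟨n, s, e, h⟩ := hw x hx
      exact cohn J h1 hU hg n h
    | zero => simp
    | add x y _ _ hx hy =>
      have := J.add_mem hx hy
      have e : (x + y).1 + unop (x + y).2 = x.1 + unop x.2 + (y.1 + unop y.2) := by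
        simp only [Prod.fst_add, Prod.snd_add, unop_add]; abel
      rw [e]; exact this
    | neg x _ hx =>
      have := J.neg_mem hx
      have e : (-x).1 + unop (-x).2 = -(x.1 + unop x.2) := by
        simp only [Prod.fst_neg, Prod.snd_neg, unop_neg]; abel
      rw [e]; exact this
  exact key _ (Subring.mem_closure_iff.1 h)

end Cfsg.Agent.H317.KP.Jordan
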