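import Cfsg.Agent.H317.KP.Jordan2

/-!
# A finite special Jordan division algebra is commutative, conclusion
-/

set_option autoImplicit false

namespace Cfsg.Agent.H317.KP.Jordan

open MulOpposite

variable {R : Type*} [Ring R]

/-- in a finite ring a left-invertible element is a unit -/
theorem isUnit_of_left [Finite R] {u r : R} (h : IsUnit (u * r)) : IsUnit r := by
  obtain ⟨v, hv⟩ := h
  have h1 : (↑v⁻¹ * u) * r = 1 := by rw [mul_assoc, ← hv, Units.inv_mul]
  have hinj : Function.Injective (fun x : R => r * x) := by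
    intro x y hxy
    have h2 := congrArg (fun z => (↑v⁻¹ * u) * z) hxy
    simp only [← mul_assoc] at h2
    rwa [h1, one_mul, one_mul] at h2
  obtain ⟨x, hx⟩ := (Finite.injective_iff_surjective.1 hinj) 1
  have hx' : r * x = 1 := hx
  have h3 : x = ↑v⁻¹ * u := by
    calc x = ((↑v⁻¹ * u) * r) * x := by rw [h1, one_mul]
      _ = ↑v⁻¹ * u := by rw [mul_assoc, hx', mul_one]
  rw [h3] at hx'
  exact ⟨⟨r, ↑v⁻¹ * u, hx', h1⟩, rfl⟩

theorem pow_one_of_unit [Finite R] {r : R} (h : IsUnit r) : ∃ n : ℕ, 1 ≤ n ∧ r ^ n = 1 := by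
  obtain ⟨v, rfl⟩ := h
  refine ⟨orderOf v, orderOf_pos v, ?_⟩
  rw [← Units.val_pow_eq_pow_val, pow_orderOf_eq_one, Units.val_one]

/-- a finite subring all of whose non-zero elements are units is commutative -/
theorem domain_comm [Finite R] (S : Subring R) (hS : ∀ x ∈ S, x ≠ 0 → IsUnit x) {x y : R} (hx : x ∈ S) (hy : y ∈ S) :
    x * y = y * x := by
  rcases subsingleton_or_nontrivial R with h | h
  · exact Subsingleton.elim _ _
  have : NoZeroDivisors S := ⟨by
    rintro ⟨x, hx⟩ ⟨y, hy⟩ hxy
    have hxy' : x * y = 0 := congrArg Subtype.val hxy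
    by_cases h0 : x = 0
    · exact Or.inl (Subtype.ext h0)
    · right
      apply Subtype.ext
      exact ((hS x hx h0).mul_right_eq_zero).1 hxy'⟩
  have : IsDomain S := NoZeroDivisors.to_isDomain S
  have hf := Finite.isDomain_to_isField S
  exact congrArg Subtype.val (hf.mul_comm ⟨x, hx⟩ ⟨y, hy⟩)

theorem add_pow_of_ortho {r r' : R} (h1 : r * r' = 0) (h2 : r' * r = 0) : ∀ n : ℕ,
    (r + r') ^ (n + 1) = r ^ (n + 1) + r' ^ (n + 1)
  | 0 => by simp
  | n + 1 => by
    rw [pow_succ, add_pow_of_ortho h1 h2 n, add_mul, mul_add, mul_add, ← pow_succ, ← pow_succ]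
    have e1 : r ^ (n + 1) * r' = 0 := by rw [pow_succ, mul_assoc, h1, mul_zero]
    have e2 : r' ^ (n + 1) * r = 0 := by rw [pow_succ, mul_assoc, h2, mul_zero]
    rw [e1, e2, add_zero, zero_add]

theorem pow_comm_sub {a b c : R} (h : a * b - b * a = c) (hc : a * c = c * a) : ∀ n : ℕ,
    a ^ (n + 1) * b - b * a ^ (n + 1) = (n + 1 : ℕ) • (a ^ n * c)
  | 0 => by simpa using h
  | n + 1 => by
    have ih := pow_comm_sub h hc n
    have hcn : a ^ (n + 1) * c = c * a ^ (n + 1) := (Commute.pow_left (show Commute a c from hc) (n + 1)).eq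
    have e : a ^ (n + 1 + 1) * b - b * a ^ (n + 1 + 1)
        = a * (a ^ (n + 1) * b - b * a ^ (n + 1)) + (a * b - b * a) * a ^ (n + 1) := by
      rw [pow_succ' a (n + 1)]; noncomm_ring
    rw [e, ih, h, mul_smul_comm, ← mul_assoc, ← pow_succ', ← hcn, succ_nsmul _ (n + 1)]

/-- **A finite special Jordan division algebra is commutative.** -/
theorem jordan_comm [Finite R] {p : ℕ} [Fact p.Prime] [CharP R p] (hp2 : p ≠ 2) (J : AddSubgroup R) (h1 : (1 : R) ∈ J)
    (hU : ∀ a ∈ J, ∀ b ∈ J, a * b * a ∈ J) (hu : ∀ a ∈ J, a ≠ 0 → IsUnit a) {a b : R} (ha : a ∈ J) (hb : b ∈ J) :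
    a * b = b * a := by
  classical
  by_contra hne
  have hpp : p.Prime := Fact.out
  -- `2` is invertible
  obtain ⟨q, hq⟩ : ∃ q : ℕ, p = 2 * q + 1 := by
    obtain ⟨q, hq⟩ := hpp.odd_of_ne_two hp2
    exact ⟨q, hq⟩
  have hpx : ∀ x : R, p • x = 0 := by
    intro x
    rw [nsmul_eq_mul, CharP.cast_eq_zero R p, zero_mul]
  have two_cancel : ∀ x : R, x + x = 0 → x = 0 := by
    intro x hx
    have h3 := hpx x
    rw [hq, add_nsmul, one_nsmul, mul_nsmul, two_nsmul, hx] at h3
    simpa using h3
  have half : ∀ x : R, x + x ∈ J → x ∈ J := by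
    intro x hx
    have h3 := J.nsmul_mem hx (q + 1)
    have h4 : (q + 1) • (x + x) = x := by
      rw [← two_nsmul, ← mul_nsmul]
      have : 2 * (q + 1) = p + 1 := by omega
      rw [this, add_nsmul, hpx, zero_add, one_nsmul]
    rwa [h4] at h3
  have sym : ∀ x, Rel a b x x → x = 0 ∨ IsUnit x := by
    intro x hx
    by_cases h0 : x = 0
    · exact Or.inl h0
    · exact Or.inr (hu x (half x (rel_J J h1 hU ha hb hx)) h0)
  -- the ring generated by `a`, `b`
  let S : Subring R := (DD a b).map (RingHom.fst R Rᵐᵒᵖ)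
  have memS : ∀ {x x' : R}, Rel a b x x' → x ∈ S := fun {x x'} h => ⟨_, h, rfl⟩
  have exS : ∀ {x : R}, x ∈ S → ∃ x', Rel a b x x' := by
    rintro x ⟨⟨y, y'⟩, h, rfl⟩
    exact ⟨unop y', h⟩
  -- the reversal is well defined
  have wd : ∀ y, Rel a b 0 y → y = 0 := by
    intro y hy
    by_contra hy0
    apply hne
    have hyu : IsUnit y := by
      apply hu y _ hy0
      have := rel_J J h1 hU ha hb hy
      rwa [zero_add] at this
    apply domain_comm S _ (memS rel_a) (memS rel_b)
    intro z hz hz0
    obtain ⟨z', hz'⟩ := exS hz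
    have h3 := rel_mul (rel_swap hz') hy
    rw [mul_zero] at h3
    have h4 := rel_J J h1 hU ha hb h3
    rw [zero_add] at h4
    have h5 : y * z ≠ 0 := by
      intro h5
      exact hz0 (hyu.mul_right_eq_zero.1 h5)
    exact isUnit_of_left (hu _ h4 h5)
  have wd' : ∀ {x y : R}, Rel a b x y → x = 0 → y = 0 := fun {x y} h h0 => wd y (h0 ▸ h)
  -- non-units
  have star_mul : ∀ {r r' : R}, Rel a b r r' → ¬ IsUnit r → r' * r = 0 := by
    intro r r' hr hn
    rcases sym _ (rel_mul (rel_swap hr) hr) with h | h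
    · exact h
    · exact absurd (isUnit_of_left h) hn
  have nonunit_star : ∀ {r r' : R}, Rel a b r r' → ¬ IsUnit r → ¬ IsUnit r' := by
    intro r r' hr hn hr'
    apply hn
    obtain ⟨n, hn1, hn2⟩ := pow_one_of_unit hr'
    have h3 := rel_sub (rel_pow hr n) rel_one
    rw [hn2, sub_self] at h3
    have h4 := wd _ (rel_swap h3)
    rw [sub_eq_zero] at h4
    exact (isUnit_pow_iff (by omega : n ≠ 0)).1 (h4 ▸ isUnit_one)
  have star_h_mul : ∀ {r r' h : R}, Rel a b r r' → ¬ IsUnit r → Rel a b h h → r' * h * r = 0 := by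
    intro r r' h hr hn hh
    have e1 := star_mul hr hn
    have e2 : r' * h * (h * r) = 0 :=
      star_mul (rel_mul hh hr) (fun hc => hn (isUnit_of_left hc))
    have e3 : r' * (1 + h) * ((1 + h) * r) = 0 :=
      star_mul (rel_mul (rel_add rel_one hh) hr) (fun hc => hn (isUnit_of_left hc))
    apply two_cancel
    have e4 : r' * (1 + h) * ((1 + h) * r) = r' * r + (r' * h * r + r' * h * r) + r' * h * (h * r) := by noncomm_ring
    rw [e4, e1, e2, zero_add, add_zero] at e3
    exact e3
  by_cases hcase : ∃ r r' : R, Rel a b r r' ∧ ¬ IsUnit r ∧ r + r' ≠ 0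
  · obtain ⟨r, r', hr, hrn, hrr⟩ := hcase
    have hrn' := nonunit_star hr hrn
    have e1 := star_mul hr hrn
    have e2 := star_mul (rel_swap hr) hrn'
    have hsym : Rel a b (r + r') (r + r') := by
      have := rel_add hr (rel_swap hr)
      rwa [add_comm r' r] at this
    have hunit : IsUnit (r + r') := (sym _ hsym).resolve_left hrr
    obtain ⟨N, hN1, hN2⟩ := pow_one_of_unit hunit
    obtain ⟨N, rfl⟩ : ∃ m, N = m + 1 := ⟨N - 1, by omega⟩
    rw [add_pow_of_ortho e2 e1] at hN2
    have he : Rel a b (r ^ (N + 1)) (r' ^ (N + 1)) := rel_pow hr _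
    have hen : ¬ IsUnit (r ^ (N + 1)) := fun h => hrn ((isUnit_pow_iff (by omega)).1 h)
    have hen' := nonunit_star he hen
    generalize r ^ (N + 1) = e at he hen hN2
    generalize r' ^ (N + 1) = e' at he hen' hN2
    have ee' : e * e' = 0 := star_mul (rel_swap he) hen'
    have e'e : e' * e = 0 := star_mul he hen
    have idem : e * e = e := by
      calc e * e = e * (e + e') := by rw [mul_add, ee', add_zero]
        _ = e := by rw [hN2, mul_one]
    have hcomm : ∀ h, Rel a b h h → e * h = h * e := by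
      intro h hh
      have f1 := star_h_mul he hen hh
      have f2 := star_h_mul (rel_swap he) hen' hh
      calc e * h = e * h * (e + e') := by rw [hN2, mul_one]
        _ = e * h * e := by rw [mul_add, f2, add_zero]
        _ = (e + e') * h * e := by rw [add_mul, add_mul, f1, add_zero]
        _ = h * e := by rw [hN2, one_mul]
    have hcent : ∀ x ∈ S, e * x = x * e := by
      have key : ∀ z ∈ DD a b, e * z.1 = z.1 * e := by
        intro z hz
        induction hz using Subring.closure_induction with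
        | mem z hz =>
          rcases hz with rfl | rfl
          · exact hcomm _ rel_a
          · exact hcomm _ rel_b
        | zero => simp
        | one => simp
        | add x y _ _ hx hy => rw [Prod.fst_add, mul_add, add_mul, hx, hy]
        | neg x _ hx => rw [Prod.fst_neg, mul_neg, neg_mul, hx]
        | mul x y _ _ hx hy => rw [Prod.fst_mul, ← mul_assoc, hx, mul_assoc, hy, mul_assoc]
      rintro x ⟨z, hz, rfl⟩
      exact key z hz
    -- the ideal of elements killed by `e`
    let I : Ideal S :=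
      { carrier := {x | (x : R) * e = 0}
        zero_mem' := by simp
        add_mem' := by
          intro x y hx hy
          simp only [Set.mem_setOf_eq] at hx hy ⊢
          rw [Subring.coe_add, add_mul, hx, hy, add_zero]
        smul_mem' := by
          intro c x hx
          simp only [Set.mem_setOf_eq] at hx ⊢
          rw [smul_eq_mul, Subring.coe_mul, mul_assoc, hx, mul_zero] }
    have hI : ∀ x : S, x ∈ I ↔ (x : R) * e = 0 := fun x => Iff.rfl
    have : I.IsTwoSided := ⟨by
      intro x b hx
      rw [hI] at hx ⊢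
      rw [Subring.coe_mul, mul_assoc, ← hcent b b.2, ← mul_assoc, hx, zero_mul]⟩
    have hne0 : e ≠ 0 := by
      rintro rfl
      rw [zero_add] at hN2
      exact hen' (hN2 ▸ isUnit_one)
    have : Nontrivial (S ⧸ I) := by
      refine ⟨⟨0, 1, ?_⟩⟩
      intro h
      have h3 : (1 : S) ∈ I := by
        rw [← Ideal.Quotient.eq_zero_iff_mem]
        exact h.symm
      rw [hI, Subring.coe_one, one_mul] at h3
      exact hne0 h3
    have : NoZeroDivisors (S ⧸ I) := ⟨by
      intro x y hxy
      obtain ⟨x, rfl⟩ := Ideal.Quotient.mk_surjective x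
      obtain ⟨y, rfl⟩ := Ideal.Quotient.mk_surjective y
      rw [← map_mul, Ideal.Quotient.eq_zero_iff_mem, hI, Subring.coe_mul] at hxy
      rw [Ideal.Quotient.eq_zero_iff_mem, Ideal.Quotient.eq_zero_iff_mem, hI, hI]
      by_cases hx0 : (x : R) * e = 0
      · exact Or.inl hx0
      · right
        obtain ⟨x', hx'⟩ := exS x.2
        have hx'S : x' ∈ S := memS (rel_swap hx')
        have hs : Rel a b ((x : R) * e + e' * x') ((x : R) * e + e' * x') := by
          have := rel_add (rel_mul hx' he) (rel_swap (rel_mul hx' he))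
          rwa [add_comm (e' * x') _] at this
        have hk : ∀ z ∈ S, e' * z * e = 0 := by
          intro z hz
          rw [mul_assoc, ← hcent z hz, ← mul_assoc, e'e, zero_mul]
        have hune : (x : R) * e + e' * x' ≠ 0 := by
          intro h0
          apply hx0
          have := congrArg (· * e) h0
          simp only [add_mul, zero_mul] at this
          rwa [mul_assoc, idem, hk x' hx'S, add_zero] at this
        have hun := (sym _ hs).resolve_left hune
        apply hun.mul_right_eq_zero.1
        rw [add_mul]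
        have f1 : (x : R) * e * ((y : R) * e) = 0 := by
          rw [mul_assoc, ← mul_assoc e, hcent y y.2, mul_assoc (y : R), idem, ← mul_assoc, hxy]
        have f2 : e' * x' * ((y : R) * e) = 0 := by
          have := hk (x' * y) (S.mul_mem hx'S y.2)
          rw [← this]; simp only [mul_assoc]
        rw [f1, f2, add_zero]⟩
    have : IsDomain (S ⧸ I) := NoZeroDivisors.to_isDomain _
    have : Finite (S ⧸ I) := Finite.of_surjective _ Ideal.Quotient.mk_surjective
    have hf := Finite.isDomain_to_isField (S ⧸ I)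
    have haS : a ∈ S := memS rel_a
    have hbS : b ∈ S := memS rel_b
    have h5 := hf.mul_comm (Ideal.Quotient.mk I ⟨a, haS⟩) (Ideal.Quotient.mk I ⟨b, hbS⟩)
    rw [← map_mul, ← map_mul, Ideal.Quotient.eq, hI] at h5
    have h6 : (a * b - b * a) * e = 0 := h5
    have h7 : Rel a b ((a * b - b * a) * e) (e' * (b * a - a * b)) :=
      rel_mul (rel_sub (rel_mul rel_a rel_b) (rel_mul rel_b rel_a)) he
    have h8 := wd' h7 h6
    have h9 : e' * (a * b - b * a) = 0 := by
      have : e' * (a * b - b * a) = - (e' * (b * a - a * b)) := by noncomm_ring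
      rw [this, h8, neg_zero]
    have h10 : e * (a * b - b * a) = 0 := by
      rw [hcent _ (S.sub_mem (S.mul_mem haS hbS) (S.mul_mem hbS haS)), h6]
    apply hne
    rw [← sub_eq_zero]
    calc a * b - b * a = (e + e') * (a * b - b * a) := by rw [hN2, one_mul]
      _ = 0 := by rw [add_mul, h9, h10, add_zero]
  · push_neg at hcase
    -- every non-unit anticommutes with the reversal
    have hcommr : ∀ {r r' x x' : R}, Rel a b r r' → ¬ IsUnit r → Rel a b x x' → r * x = x' * r := by
      intro r r' x x' hr hn hx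
      have f1 := hcase r r' hr hn
      have f2 := hcase (x' * r) (r' * x) (rel_mul (rel_swap hx) hr) (fun hc => hn (isUnit_of_left hc))
      have f3 : r' = -r := by rw [eq_neg_iff_add_eq_zero, add_comm]; exact f1
      rw [f3, neg_mul, ← sub_eq_add_neg, sub_eq_zero] at f2
      exact f2.symm
    have hex : ∃ r ∈ S, r ≠ 0 ∧ ¬ IsUnit r := by
      by_contra hno
      push_neg at hno
      exact hne (domain_comm S hno (memS rel_a) (memS rel_b))
    obtain ⟨r, hrS, hr0, hrn⟩ := hex
    obtain ⟨r', hr⟩ := exS hrS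
    have g1 := hcommr hr hrn rel_a
    have g2 := hcommr hr hrn rel_b
    have g3 := hcommr hr hrn (rel_mul rel_a rel_b)
    have g4 : r * (a * b - b * a) = 0 := by
      rw [mul_sub, g3, ← mul_assoc r b a, g2, mul_assoc b r a, g1, ← mul_assoc, sub_self]
    have hc0 : a * b - b * a ≠ 0 := by rwa [Ne, sub_eq_zero]
    have hcn : ¬ IsUnit (a * b - b * a) := by
      intro hc
      exact hr0 (hc.mul_left_eq_zero.1 g4)
    have hcR : Rel a b (a * b - b * a) (b * a - a * b) := rel_sub (rel_mul rel_a rel_b) (rel_mul rel_b rel_a)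
    have k1 := hcommr hcR hcn rel_a
    -- `a` is a unit of order prime to `p`
    have ha0 : a ≠ 0 := by
      rintro rfl
      apply hne; rw [zero_mul, mul_zero]
    obtain ⟨u, hu1⟩ := hu a ha ha0
    have hord : ¬ p ∣ orderOf u := by
      rintro ⟨m, hm⟩
      have hm0 : 0 < m := by
        rcases Nat.eq_zero_or_pos m with h | h
        · have := orderOf_pos u
          rw [hm, h] at this
          simp at this
        · exact h
      have h3 : a ^ m - 1 ∈ J := J.sub_mem (pow_mem J h1 hU ha m) h1
      have h4 : (a ^ m - 1) ^ p = 0 := by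
        rw [sub_pow_char_of_commute _ (Commute.one_right _), one_pow, ← pow_mul, mul_comm m p, ← hm, ← hu1,
          ← Units.val_pow_eq_pow_val, pow_orderOf_eq_one, Units.val_one, sub_self]
      have h5 : a ^ m = 1 := by
        by_contra h5
        have h6 := hu _ h3 (sub_ne_zero.2 h5)
        have h7 := h6.pow p
        rw [h4] at h7
        have h8 : Nontrivial R := ⟨⟨a, 0, ha0⟩⟩
        exact not_isUnit_zero h7
      have h6 : u ^ m = 1 := by
        apply Units.ext
        rw [Units.val_pow_eq_pow_val, hu1, h5, Units.val_one]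
      have h7 := Nat.le_of_dvd hm0 (orderOf_dvd_of_pow_eq_one h6)
      rw [hm] at h7
      have := hpp.two_le
      nlinarith
    obtain ⟨n, hn⟩ : ∃ n, orderOf u = n + 1 := ⟨orderOf u - 1, by have := orderOf_pos u; omega⟩
    have l1 := pow_comm_sub (a := a) (b := b) rfl k1.symm n
    have hapow : a ^ (n + 1) = 1 := by
      rw [← hn, ← hu1, ← Units.val_pow_eq_pow_val, pow_orderOf_eq_one, Units.val_one]
    rw [hapow, one_mul, mul_one, sub_self] at l1
    have hcop : Nat.Coprime (n + 1) p := by
      rw [← hn]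
      exact ((Nat.Prime.coprime_iff_not_dvd hpp).2 hord).symm
    have l2 : a ^ n * (a * b - b * a) = 0 := by
      have hb := Nat.gcd_eq_gcd_ab (n + 1) p
      rw [hcop] at hb
      have l3 : ((n + 1 : ℕ) : ℤ) • (a ^ n * (a * b - b * a)) = 0 := by rw [natCast_zsmul]; exact l1.symm
      have l4 : (p : ℤ) • (a ^ n * (a * b - b * a)) = 0 := by rw [natCast_zsmul]; exact hpx _
      have l5 : ((1 : ℕ) : ℤ) • (a ^ n * (a * b - b * a)) = 0 := by
        rw [hb, add_zsmul, mul_comm ((n + 1 : ℕ) : ℤ), mul_zsmul, l3, mul_comm (p : ℤ), mul_zsmul, l4]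
        simp
      simpa using l5
    have l6 : IsUnit (a ^ n) := by
      rw [← hu1]; exact u.isUnit.pow n
    exact hc0 (l6.mul_right_eq_zero.1 l2)

end Cfsg.Agent.H317.KP.Jordan
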