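import Mathlib

/-!
The norm homomorphism: if `f : L → Γ` is injective, its image is centralised by `A1 ≤ A0` and
commutes with its conjugates by the elements of `A0` outside `A1`, then the product of the
conjugates of `f x` over `A0 / A1` is a homomorphism whose values are fixed by `A0`, with central
kernel.
-/

namespace Cfsg.Agent.H317.KP

open scoped Pointwise

section
variable {Γ L : Type*} [Group Γ] [Group L]

theorem norm_hom (A0 : Subgroup Γ) [Finite A0] (A1 G : Subgroup Γ)
    (hnorm : ∀ a ∈ A0, ∀ g ∈ G, a * g * a⁻¹ ∈ G) (f : L →* Γ) (hf : Function.Injective f)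
    (hfG : ∀ x, f x ∈ G) (h1 : ∀ a ∈ A0, a ∈ A1 → ∀ x, a * f x * a⁻¹ = f x)
    (h2 : ∀ a ∈ A0, a ∉ A1 → ∀ x y, f x * (a * f y * a⁻¹) = (a * f y * a⁻¹) * f x) :
    ∃ Φ : L →* Γ, (∀ x, Φ x ∈ G) ∧ (∀ a ∈ A0, ∀ x, a * Φ x * a⁻¹ = Φ x) ∧
      Φ.ker ≤ Subgroup.center L := by
  classical
  let Q := A0 ⧸ A1.subgroupOf A0
  letI : Fintype Q := Fintype.ofFinite Q
  let r : Q → Γ := fun q => ((Quotient.out q : A0) : Γ)
  have hr : ∀ q, r q ∈ A0 := fun q => (Quotient.out q : A0).2
  let φ : Q → (L →* Γ) := fun q => (MulAut.conj (r q)).toMonoidHom.comp f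
  have hφ : ∀ q x, φ q x = r q * f x * (r q)⁻¹ := fun q x => rfl
  have hcomm : Pairwise fun i j => ∀ x y, Commute (φ i x) (φ j y) := by
    intro i j hij x y
    have hmem : (r i)⁻¹ * r j ∈ A0 := A0.mul_mem (A0.inv_mem (hr i)) (hr j)
    have hnot : (r i)⁻¹ * r j ∉ A1 := by
      intro hin
      apply hij
      have e1 : (Quotient.out i : A0)⁻¹ * (Quotient.out j : A0) ∈ A1.subgroupOf A0 := by
        rw [Subgroup.mem_subgroupOf]
        exact hin
      have e2 : ((Quotient.out i : A0) : Q) = ((Quotient.out j : A0) : Q) :=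
        QuotientGroup.eq.mpr e1
      have e3 : ((Quotient.out i : A0) : Q) = i := Quotient.out_eq' i
      have e4 : ((Quotient.out j : A0) : Q) = j := Quotient.out_eq' j
      rw [← e3, ← e4]
      exact e2
    have h := h2 _ hmem hnot x y
    show φ i x * φ j y = φ j y * φ i x
    rw [hφ, hφ]
    have e5 : r i * f x * (r i)⁻¹ * (r j * f y * (r j)⁻¹)
        = r i * (f x * ((r i)⁻¹ * r j * f y * ((r i)⁻¹ * r j)⁻¹)) * (r i)⁻¹ := by group
    have e6 : r j * f y * (r j)⁻¹ * (r i * f x * (r i)⁻¹)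
        = r i * (((r i)⁻¹ * r j * f y * ((r i)⁻¹ * r j)⁻¹) * f x) * (r i)⁻¹ := by group
    rw [e5, e6, h]
  let P : (Q → L) →* Γ := MonoidHom.noncommPiCoprod (N := fun _ : Q => L) φ hcomm
  let D : L →* (Q → L) := Pi.monoidHom fun _ => MonoidHom.id L
  have hD : ∀ x q, D x q = x := fun x q => rfl
  have hPD : ∀ x, P (D x) = Finset.noncommProd Finset.univ (fun q => φ q x)
      (fun i _ j _ h => hcomm h _ _) := by
    intro x
    exact MonoidHom.noncommPiCoprod_apply (N := fun _ : Q => L) (ϕ := φ) (hcomm := hcomm) (D x)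
  refine ⟨P.comp D, ?_, ?_, ?_⟩
  · intro x
    rw [MonoidHom.comp_apply, hPD]
    apply Subgroup.noncommProd_mem
    intro q _
    rw [hφ]
    exact hnorm _ (hr q) _ (hfG x)
  · intro a ha x
    rw [MonoidHom.comp_apply, hPD]
    have e1 := Finset.map_noncommProd Finset.univ (fun q => φ q x)
      (fun i _ j _ h => hcomm h _ _) (MulAut.conj a).toMonoidHom
    have e2 : (MulAut.conj a).toMonoidHom (Finset.noncommProd Finset.univ (fun q => φ q x)
      (fun i _ j _ h => hcomm h _ _)) = a * (Finset.noncommProd Finset.univ (fun q => φ q x)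
      (fun i _ j _ h => hcomm h _ _)) * a⁻¹ := rfl
    rw [e2] at e1
    rw [e1]
    let e : Q ≃ Q := MulAction.toPerm (⟨a, ha⟩ : A0)
    have he : ∀ q, (MulAut.conj a).toMonoidHom (φ q x) = φ (e q) x := by
      intro q
      show a * (φ q x) * a⁻¹ = φ (e q) x
      rw [hφ, hφ]
      -- a * r q and r (e q) lie in the same coset
      have e3 : ((Quotient.out q : A0) : Q) = q := Quotient.out_eq' q
      have e4 : ((Quotient.out (e q) : A0) : Q) = e q := Quotient.out_eq' (e q)
      have e5 : e q = (((⟨a, ha⟩ : A0) * (Quotient.out q : A0) : A0) : Q) := by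
        conv_lhs => rw [← e3]
        rfl
      have e6 : (Quotient.out (e q) : A0)⁻¹ * ((⟨a, ha⟩ : A0) * (Quotient.out q : A0))
          ∈ A1.subgroupOf A0 := by
        rw [← QuotientGroup.eq]
        rw [e4, e5]
      have e7 : (r (e q))⁻¹ * (a * r q) ∈ A1 := by
        rw [Subgroup.mem_subgroupOf] at e6
        exact e6
      have e8 : (r (e q))⁻¹ * (a * r q) ∈ A0 :=
        A0.mul_mem (A0.inv_mem (hr _)) (A0.mul_mem ha (hr _))
      have e9 := h1 _ e8 e7 x
      have e10 : a * (r q * f x * (r q)⁻¹) * a⁻¹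
        = r (e q) * ((r (e q))⁻¹ * (a * r q) * f x * ((r (e q))⁻¹ * (a * r q))⁻¹) * (r (e q))⁻¹ := by
        group
      rw [e10, e9]
    unfold Finset.noncommProd
    congr 1
    have e11 : (fun i => (MulAut.conj a).toMonoidHom (φ i x)) = (fun q => φ q x) ∘ e := by
      funext q
      exact he q
    show Multiset.map (fun i => (MulAut.conj a).toMonoidHom (φ i x)) Finset.univ.val = _
    rw [e11, ← Multiset.map_map, Multiset.map_univ_val_equiv]
  · intro s hs
    rw [MonoidHom.mem_ker, MonoidHom.comp_apply] at hs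
    rw [Subgroup.mem_center_iff]
    intro t
    let q0 : Q := ((1 : A0) : Q)
    have e1 : D s * Pi.mulSingle q0 t = Pi.mulSingle q0 (s * t * s⁻¹) * D s := by
      funext q
      by_cases hq : q = q0
      · subst hq
        simp [hD]
      · simp [hD, hq]
    have e2 := congrArg P e1
    rw [map_mul, map_mul, hs, one_mul, mul_one] at e2
    have e3 : ∀ y, P (Pi.mulSingle q0 y) = φ q0 y := fun y =>
      MonoidHom.noncommPiCoprod_mulSingle (N := fun _ : Q => L) φ (hcomm := hcomm) q0 y
    rw [e3, e3] at e2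
    have e4 : t = s * t * s⁻¹ := by
      apply hf
      exact (MulAut.conj (r q0)).injective e2
    calc t * s = s * t * s⁻¹ * s := by rw [← e4]
      _ = s * t := by group

end

end Cfsg.Agent.H317.KP
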