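import Cfsg.Agent.H317.KP.Red3
import Cfsg.Agent.S0653
import Cfsg.Agent.PLocal.ThompsonJA
import Cfsg.Agent.PLocal.Constrained

/-!
# `Z(J(S))` is normal when `C_G(O_p(G)) ≤ O_p(G)` and the fixed points of a coprime operator group do not involve `PSL₂(p)`
-/

set_option autoImplicit false

namespace Cfsg.Agent.H317.KP

open Cfsg Cfsg.Agent.Lib.Involves

section semi

variable {G : Type*} [Group G] (A : Subgroup (MulAut G))

/-- the semidirect product -/
abbrev Semi : Type _ := G ⋊[A.subtype] ↥A

variable {A}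

theorem inr_conj_inl (a : ↥A) (g : G) :
    (SemidirectProduct.inr a : Semi A) * SemidirectProduct.inl g * (SemidirectProduct.inr a)⁻¹ =
      SemidirectProduct.inl ((a : MulAut G) g) := by
  rw [← map_inv]
  exact (SemidirectProduct.inl_aut a g).symm

theorem range_inl_normal : ((SemidirectProduct.inl : G →* Semi A).range).Normal := by
  rw [SemidirectProduct.range_inl_eq_ker_rightHom]
  infer_instance

theorem index_range_inl : ((SemidirectProduct.inl : G →* Semi A).range).index = Nat.card ↥A := by
  rw [SemidirectProduct.range_inl_eq_ker_rightHom, Subgroup.index_ker,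
    MonoidHom.range_eq_top.2 SemidirectProduct.rightHom_surjective, Subgroup.card_top]

theorem card_range_inl : Nat.card ((SemidirectProduct.inl : G →* Semi A).range) = Nat.card G :=
  (Nat.card_congr (MonoidHom.ofInjective SemidirectProduct.inl_injective).toEquiv).symm

theorem card_range_inr : Nat.card ((SemidirectProduct.inr : ↥A →* Semi A).range) = Nat.card ↥A :=
  (Nat.card_congr (MonoidHom.ofInjective SemidirectProduct.inr_injective).toEquiv).symm

/-- the image of an invariant normal subgroup is normal -/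
theorem map_inl_normal {Q : Subgroup G} (hQ : Q.Normal) (hA : ∀ a ∈ A, ∀ x ∈ Q, (a : MulAut G) x ∈ Q) :
    (Q.map (SemidirectProduct.inl : G →* Semi A)).Normal := by
  refine ⟨?_⟩
  rintro _ ⟨x, hx, rfl⟩ γ
  have h1 : γ = SemidirectProduct.inl γ.left * SemidirectProduct.inr γ.right :=
    (SemidirectProduct.inl_left_mul_inr_right γ).symm
  rw [h1, mul_inv_rev]
  have h2 : (SemidirectProduct.inl γ.left : Semi A) * SemidirectProduct.inr γ.right * SemidirectProduct.inl x *
      ((SemidirectProduct.inr γ.right)⁻¹ * (SemidirectProduct.inl γ.left)⁻¹) =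
      SemidirectProduct.inl γ.left * (SemidirectProduct.inr γ.right * SemidirectProduct.inl x *
      (SemidirectProduct.inr γ.right)⁻¹) * (SemidirectProduct.inl γ.left)⁻¹ := by group
  rw [h2, inr_conj_inl, ← map_inv, ← map_mul, ← map_mul]
  exact ⟨_, hQ.conj_mem _ (hA _ γ.right.2 _ hx) _, rfl⟩

/-- an element of the semidirect product commuting with `G` lies in `G` -/
theorem mem_range_inl_of_comm [Finite G] (hcop : (Nat.card ↥A).Coprime (Nat.card G)) {e : Semi A}
    (he : ∀ h : G, e * SemidirectProduct.inl h = SemidirectProduct.inl h * e) :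
    e ∈ (SemidirectProduct.inl : G →* Semi A).range := by
  have h1 : e = SemidirectProduct.inl e.left * SemidirectProduct.inr e.right :=
    (SemidirectProduct.inl_left_mul_inr_right e).symm
  set g := e.left with hg
  set a := e.right with ha
  have h2 : ∀ h : G, (a : MulAut G) h = g⁻¹ * h * g := by
    intro h
    have h3 := he h
    rw [h1] at h3
    have h4 : (SemidirectProduct.inr a : Semi A) * SemidirectProduct.inl h =
        SemidirectProduct.inl ((a : MulAut G) h) * SemidirectProduct.inr a := by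
      rw [← inr_conj_inl, inv_mul_cancel_right]
    rw [mul_assoc, h4, ← mul_assoc, ← mul_assoc, mul_left_inj, ← map_mul, ← map_mul] at h3
    have h5 := SemidirectProduct.inl_injective h3
    rw [mul_assoc, ← h5, inv_mul_cancel_left]
  have h3 : (a : MulAut G) = MulAut.conj g⁻¹ := by
    ext h
    rw [h2, MulAut.conj_apply, inv_inv]
  have h4 : a = 1 := by
    apply Subtype.ext
    have h5 : (a : MulAut G) ^ Nat.card G = 1 := by
      rw [h3, ← map_pow, inv_pow, pow_card_eq_one', inv_one, map_one]
    have h6 : (a : MulAut G) ^ Nat.card ↥A = 1 := by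
      have : a ^ Nat.card ↥A = 1 := pow_card_eq_one'
      exact congrArg Subtype.val this
    have h7 : orderOf (a : MulAut G) ∣ 1 := by
      rw [← hcop]
      exact Nat.dvd_gcd (orderOf_dvd_of_pow_eq_one h6) (orderOf_dvd_of_pow_eq_one h5)
    exact orderOf_eq_one_iff.1 (Nat.dvd_one.1 h7)
  rw [h1, h4, map_one, mul_one]
  exact ⟨g, rfl⟩

end semi

theorem commute_of_normal_inf {Γ : Type*} [Group Γ] {X Y : Subgroup Γ} (hX : X.Normal) (hY : Y.Normal)
    (h : X ⊓ Y = ⊥) {x y : Γ} (hx : x ∈ X) (hy : y ∈ Y) : x * y = y * x := by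
  have h1 : x * y * x⁻¹ * y⁻¹ ∈ X ⊓ Y := by
    refine ⟨?_, Y.mul_mem (hY.conj_mem y hy x) (Y.inv_mem hy)⟩
    have : x * y * x⁻¹ * y⁻¹ = x * (y * x⁻¹ * y⁻¹) := by group
    rw [this]
    exact X.mul_mem hx (hX.conj_mem _ (X.inv_mem hx) y)
  rw [h, Subgroup.mem_bot] at h1
  have h2 : x * y = x * y * x⁻¹ * y⁻¹ * (y * x) := by group
  rw [h2, h1, one_mul]

section main

variable {p : ℕ} [Fact p.Prime] {G : Type*} [Group G] [Finite G] {A : Subgroup (MulAut G)}

theorem pCore_inv (a : MulAut G) {x : G} (hx : x ∈ pCore p G) : a x ∈ pCore p G := by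
  have h := Cfsg.Agent.Lib.Cores.pCore_characteristic (G := G) p
  exact (Subgroup.characteristic_iff_map_le.1 h a) ⟨x, hx, rfl⟩

variable (hc : Subgroup.centralizer (pCore p G : Set G) ≤ pCore p G)
  (hcop : (Nat.card ↥A).Coprime (Nat.card G))

theorem finite_semi : Finite (Semi A) := Finite.of_equiv _ (SemidirectProduct.equivProd (φ := A.subtype)).symm

theorem Q_normal : ((pCore p G).map (SemidirectProduct.inl : G →* Semi A)).Normal :=
  map_inl_normal (Cfsg.Agent.Lib.Cores.pCore_normal p) (fun a _ _ hx => pCore_inv a hx)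

theorem Q_le : (pCore p G).map (SemidirectProduct.inl : G →* Semi A) ≤ pCore p (Semi A) :=
  Cfsg.Agent.PLocal.PConstrained.le_pCore Q_normal
    ((Cfsg.Agent.PLocal.PConstrained.isPGroup_pCore p G).map _)

include hc hcop in
theorem pPrimeCore_semi : pPrimeCore p (Semi A) = ⊥ := by
  have : Finite (Semi A) := finite_semi
  set E := pPrimeCore p (Semi A) with hE
  have hEn : E.Normal := Cfsg.Agent.Lib.Cores.pPrimeCore_normal p
  have hEp : (Nat.card ↥E).Coprime p := Cfsg.Agent.PLocal.PConstrained.coprime_card_pPrimeCore p (Semi A)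
  have hNn : ((SemidirectProduct.inl : G →* Semi A).range).Normal := range_inl_normal
  set N := (SemidirectProduct.inl : G →* Semi A).range with hN
  have hQE : (pCore p G).map (SemidirectProduct.inl : G →* Semi A) ⊓ E = ⊥ :=
    Cfsg.Agent.PLocal.PConstrained.inf_eq_bot_of_isPGroup_of_coprime
      ((Cfsg.Agent.PLocal.PConstrained.isPGroup_pCore p G).map _) hEp
  have hEN : E ⊓ N = ⊥ := by
    rw [Subgroup.eq_bot_iff_forall]
    rintro _ ⟨he, ⟨g, rfl⟩⟩
    have h1 : g ∈ Subgroup.centralizer (pCore p G : Set G) := by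
      rw [Subgroup.mem_centralizer_iff]
      intro h hh
      have h2 := commute_of_normal_inf Q_normal hEn hQE (x := SemidirectProduct.inl h)
        (y := SemidirectProduct.inl g) ⟨h, hh, rfl⟩ he
      rw [← map_mul, ← map_mul] at h2
      exact SemidirectProduct.inl_injective h2
    have h2 : (SemidirectProduct.inl g : Semi A) ∈
        (pCore p G).map (SemidirectProduct.inl : G →* Semi A) ⊓ E := ⟨⟨g, hc h1, rfl⟩, he⟩
    rw [hQE] at h2
    exact h2
  rw [Subgroup.eq_bot_iff_forall]
  intro e he
  have h1 : e ∈ N := mem_range_inl_of_comm hcop (fun h =>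
    commute_of_normal_inf hEn hNn hEN he ⟨h, rfl⟩)
  have h2 : e ∈ E ⊓ N := ⟨he, h1⟩
  rw [hEN] at h2
  exact h2

include hc hcop in
theorem centralizer_pCore_semi (hpA : ¬ p ∣ Nat.card ↥A) :
    Subgroup.centralizer (pCore p (Semi A) : Set (Semi A)) ≤ pCore p (Semi A) := by
  have : Finite (Semi A) := finite_semi
  have hNn : ((SemidirectProduct.inl : G →* Semi A).range).Normal := range_inl_normal
  set N := (SemidirectProduct.inl : G →* Semi A).range with hN
  have hPn : (pCore p (Semi A)).Normal := Cfsg.Agent.Lib.Cores.pCore_normal p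
  set L := Subgroup.centralizer (pCore p (Semi A) : Set (Semi A)) with hL
  have hLn : L.Normal := inferInstance
  have hZQ : L ⊓ N ≤ pCore p (Semi A) := by
    rintro _ ⟨hz, ⟨g, rfl⟩⟩
    refine Q_le ⟨g, hc ?_, rfl⟩
    rw [Subgroup.mem_centralizer_iff]
    intro h hh
    have h1 := Subgroup.mem_centralizer_iff.1 hz (SemidirectProduct.inl h) (Q_le ⟨h, hh, rfl⟩)
    rw [← map_mul, ← map_mul] at h1
    exact SemidirectProduct.inl_injective h1
  refine le_trans (Cfsg.Agent.PLocal.Constrained.eq_of_central_of_coprime (pPrimeCore_semi hc hcop) hLn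
    (Z := L ⊓ N) ((Cfsg.Agent.PLocal.PConstrained.isPGroup_pCore p _).to_le hZQ) inf_le_left ?_ ?_) hZQ
  · intro z hz y hy
    exact (Subgroup.mem_centralizer_iff.1 hy z (hZQ hz))
  · rw [Subgroup.inf_relIndex_left]
    have h1 : N.relIndex L ∣ Nat.card ↥A := by
      rw [← index_range_inl (A := A)]
      exact Subgroup.relIndex_dvd_index_of_normal _ _
    exact Nat.Coprime.coprime_dvd_left h1 ((Nat.Prime.coprime_iff_not_dvd Fact.out).2 hpA).symm

end main

end Cfsg.Agent.H317.KP
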