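import Cfsg.Agent.H317.KP.Red4
import Mathlib.LinearAlgebra.Matrix.ProjectiveSpecialLinearGroup

/-!
# `Z(J(S))` is normal: the case `C_G(O_p(G)) ≤ O_p(G)`
-/

set_option autoImplicit false

namespace Cfsg.Agent.H317.KP

open Cfsg Cfsg.Agent.Lib.Involves

theorem exists_pi {p : ℕ} [Fact p.Prime] {F : Type*} [Field F] [Fintype F] (hF : Fintype.card F = p) :
    ∃ π : Matrix.SpecialLinearGroup (Fin 2) (ZMod p) →* Matrix.ProjectiveSpecialLinearGroup (Fin 2) F,
      Function.Surjective π ∧ Subgroup.center _ ≤ π.ker := by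
  let e : ZMod p ≃+* F := ZMod.ringEquivOfPrime F Fact.out hF
  let m : Matrix.SpecialLinearGroup (Fin 2) (ZMod p) →* Matrix.SpecialLinearGroup (Fin 2) F :=
    Matrix.SpecialLinearGroup.map (e : ZMod p →+* F)
  have hm : Function.Surjective m := by
    intro y
    refine ⟨Matrix.SpecialLinearGroup.map (e.symm : F →+* ZMod p) y, ?_⟩
    ext i j
    change e (e.symm ((y : Matrix (Fin 2) (Fin 2) F) i j)) = _
    rw [RingEquiv.apply_symm_apply]
  refine ⟨(QuotientGroup.mk' _).comp m, (QuotientGroup.mk'_surjective _).comp hm, ?_⟩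
  intro z hz
  rw [MonoidHom.mem_ker, MonoidHom.comp_apply]
  refine (QuotientGroup.eq_one_iff _).2 ?_
  rw [Subgroup.mem_center_iff] at hz ⊢
  intro y
  obtain ⟨x, rfl⟩ := hm y
  rw [← map_mul, ← map_mul, hz]

theorem zj_normal {p : ℕ} [Fact p.Prime] (hp5 : 5 ≤ p) {G : Type*} [Group G] [Finite G]
    (hc : Subgroup.centralizer (pCore p G : Set G) ≤ pCore p G) (S : Sylow p G) (A : Subgroup (MulAut G))
    (hA : (Nat.card ↥A).Coprime (Nat.card G)) (C : Subgroup G) (hC : ∀ g : G, g ∈ C ↔ ∀ a ∈ A, a g = g)
    {Y : Type*} [Group Y] (π : Matrix.SpecialLinearGroup (Fin 2) (ZMod p) →* Y) (hπ : Function.Surjective π)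
    (hπk : Subgroup.center _ ≤ π.ker) (hni : ¬ Involves ↥C Y) :
    (centerThompsonAOf (S : Subgroup G)).Normal := by
  by_cases hpG : p ∣ Nat.card G
  · have hpA : ¬ p ∣ Nat.card ↥A := by
      intro h
      have := Nat.dvd_gcd h hpG
      rw [hA] at this
      exact (Fact.out : p.Prime).one_lt.ne' (Nat.dvd_one.1 this)
    have : Finite (Semi A) := finite_semi
    have hNn : ((SemidirectProduct.inl : G →* Semi A).range).Normal := range_inl_normal
    set N := (SemidirectProduct.inl : G →* Semi A).range with hN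
    set B := (SemidirectProduct.inr : ↥A →* Semi A).range with hB
    have hidx : ¬ p ∣ N.index := by rw [hN, index_range_inl]; exact hpA
    have hcop : (Nat.card ↥B).Coprime (Nat.card ↥N) := by
      rw [hB, hN, card_range_inr, card_range_inl]; exact hA
    have hle : N ⊓ Subgroup.centralizer (B : Set (Semi A)) ≤ C.map SemidirectProduct.inl := by
      rintro _ ⟨⟨g, rfl⟩, hg⟩
      refine ⟨g, (hC g).2 fun a ha => ?_, rfl⟩
      have h1 := Subgroup.mem_centralizer_iff.1 hg (SemidirectProduct.inr ⟨a, ha⟩) ⟨⟨a, ha⟩, rfl⟩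
      have h2 := inr_conj_inl (⟨a, ha⟩ : ↥A) g
      rw [h1, mul_inv_cancel_right] at h2
      exact (SemidirectProduct.inl_injective h2).symm
    have hni' : ¬ Involves ↥(N ⊓ Subgroup.centralizer (B : Set (Semi A)) : Subgroup (Semi A)) Y := by
      intro h
      apply hni
      have h1 : Involves ↥(C.map (SemidirectProduct.inl : G →* Semi A)) Y :=
        trans (of_injective (Subgroup.inclusion hle) (Subgroup.inclusion_injective hle)) h
      exact (congr_left (C.equivMapOfInjective _ SemidirectProduct.inl_injective)).2 h1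
    have hidx' : ¬ p ∣ ((S : Subgroup G).map (SemidirectProduct.inl : G →* Semi A)).index := by
      rw [Subgroup.index_map_of_injective _ SemidirectProduct.inl_injective, ← hN]
      intro h
      rcases (Nat.Prime.dvd_mul Fact.out).1 h with h | h
      · exact S.not_dvd_index h
      · exact hidx h
    let S' : Sylow p (Semi A) := (S.isPGroup'.map (SemidirectProduct.inl : G →* Semi A)).toSylow hidx'
    have hchar := Cfsg.Agent.S0653.result (by omega) (centralizer_pCore_semi hc hA hpA)
      (fun P _ hP => stable_of_not_involved hp5 N B hidx hcop π hπ hπk hni' P hP) S'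
    have hnorm : (centerThompsonAOf ((S' : Subgroup (Semi A)))).Normal := @Subgroup.normal_of_characteristic _ _ _ hchar
    have hS' : (S' : Subgroup (Semi A)) = (S : Subgroup G).map (SemidirectProduct.inl : G →* Semi A) := rfl
    rw [hS', ← Cfsg.Agent.PLocal.ThompsonJA.map_centerThompsonAOf _ SemidirectProduct.inl_injective] at hnorm
    have h1 := hnorm.comap (SemidirectProduct.inl : G →* Semi A)
    rwa [Subgroup.comap_map_eq_self_of_injective SemidirectProduct.inl_injective] at h1
  · -- `G` is a `p'`-group, hence trivial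
    have h1 : pCore p G = ⊥ := by
      have h2 := Cfsg.Agent.PLocal.PConstrained.inf_eq_bot_of_isPGroup_of_coprime
        (Cfsg.Agent.PLocal.PConstrained.isPGroup_pCore p G) (K := (⊤ : Subgroup G)) (by
          rw [Subgroup.card_top]
          exact ((Nat.Prime.coprime_iff_not_dvd Fact.out).2 hpG).symm)
      rwa [inf_top_eq] at h2
    have h2 : (⊤ : Subgroup G) = ⊥ := by
      rw [h1] at hc
      refine le_bot_iff.1 (le_trans ?_ hc)
      intro x _
      rw [Subgroup.mem_centralizer_iff]
      intro y hy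
      rw [SetLike.mem_coe, Subgroup.mem_bot] at hy
      rw [hy, one_mul, mul_one]
    have h3 : ∀ x : G, x = 1 := fun x => by
      have : x ∈ (⊤ : Subgroup G) := Subgroup.mem_top x
      rw [h2, Subgroup.mem_bot] at this
      exact this
    exact ⟨fun x hx g => by rw [h3 (g * x * g⁻¹)]; exact Subgroup.one_mem _⟩

end Cfsg.Agent.H317.KP
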